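import Cfsg.Agent.Lib.Helper6.TCD.J3a.SH
import Cfsg.Agent.Lib.Helper6.TCD.J3a.SC
import Cfsg.Agent.Lib.Helper6.TCD.J3a.NH
import Cfsg.Agent.Lib.Helper6.TCD.J3a.NC
import Cfsg.Agent.Lib.Helper6.TCD.J3a.WD
import Cfsg.Agent.Lib.Helper6.TCD.J3a.WI
import Cfsg.Agent.Lib.Helper6.TCD.J3a.P0
import Cfsg.Agent.Lib.Helper6.TCD.J3a.P1
import Cfsg.Agent.Lib.Helper6.TCD.J3a.P2
import Cfsg.Agent.Lib.Helper6.TCD.J3a.P3
import Cfsg.Agent.Lib.Helper6.TCD.J3a.P4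
import Cfsg.Agent.Lib.Helper6.TCD.J3a.GT
import Cfsg.Agent.Lib.Helper6.TCD.J3a.HR
import Cfsg.Agent.Lib.Helper6.TCD.J3a.Q2
import Cfsg.Agent.Lib.Helper6.TCD.J3a.Q3
import Cfsg.Agent.Lib.Helper6.TCD.J3a.Q4
import Cfsg.Agent.Lib.Helper6.TCD.J3a.Q5
import Cfsg.Agent.Lib.Helper6.TCD.J3a.Q7
import Cfsg.Agent.Lib.Helper6.TCD.J3a.Q10
import Cfsg.Agent.Lib.Helper6.TCD.J3a.Q16
import Cfsg.Agent.Lib.Helper6.TCD.J3a.Q17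
import Cfsg.Agent.Lib.Helper6.TCD.J3a.Q18
import Cfsg.Agent.Lib.Helper6.TCD.J3a.Q22
import Cfsg.Agent.Lib.Helper6.TCD.J3a.Q24
import Cfsg.Agent.Lib.Helper6.TCD.J3a.Q37
set_option autoImplicit false
namespace Cfsg.Agent.Lib.Helper6.TCD.J3a
def n : Nat := 73444
def ncol : Nat := 5
def nrw : Nat := 979
def nw : Nat := 981
def tmax : Nat := 272449
def INV : Nat := 213280
def N : Nat := 6156
noncomputable def px (c p : Nat) : Nat := Nat.rec (motive := fun _ => Nat) (P0 p) (fun k0 _ => Nat.rec (motive := fun _ => Nat) (P1 p) (fun k1 _ => Nat.rec (motive := fun _ => Nat) (P2 p) (fun k2 _ => Nat.rec (motive := fun _ => Nat) (P3 p) (fun k3 _ => P4 p) k2) k1) k0) c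
noncomputable def H0 (p : Nat) : Nat := P0 p
noncomputable def H1 (p : Nat) : Nat := P3 p
noncomputable def hsel (c p : Nat) : Nat := Nat.rec (motive := fun _ => Nat) (H0 p) (fun k0 _ => H1 p) c
noncomputable def lab (p : Nat) : Nat := Nat.land (HR p) 15
noncomputable def rnk (p : Nat) : Nat := Nat.shiftRight (HR p) 8
noncomputable def mv (p : Nat) : Nat := hsel (Nat.land (Nat.shiftRight (HR p) 4) 15) p
noncomputable def isRoot (p : Nat) : Bool := Bool.rec (Bool.rec (Bool.rec (Bool.rec (Bool.rec (Bool.rec (Bool.rec (Bool.rec (false) true (Nat.beq p 166)) true (Nat.beq p 74)) true (Nat.beq p 55)) true (Nat.beq p 15)) true (Nat.beq p 10)) true (Nat.beq p 9)) true (Nat.beq p 1)) true (Nat.beq p 0)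
noncomputable def R1 (p : Nat) : Nat := P1 (P1 (P1 p))
noncomputable def U2 (p : Nat) : Nat := P1 (P0 p)
noncomputable def R2 (p : Nat) : Nat := Q2 (Q2 (Q2 (Q2 (Q2 (Q2 (Q2 (Q2 (Q2 (Q2 (Q2 (Q2 (Q2 (Q2 (Q2 (Q2 (Q2 (Q2 (Q2 p))))))))))))))))))
noncomputable def U3 (p : Nat) : Nat := P1 (P0 (P2 (P0 p)))
noncomputable def R3 (p : Nat) : Nat := Q3 (Q3 (Q3 (Q3 (Q3 (Q3 (Q3 (Q3 (Q3 p))))))))
noncomputable def U4 (p : Nat) : Nat := P2 (P0 (P2 (P0 (P2 (P0 (P2 (P0 (P2 (P0 (P1 (P0 (P1 (P0 (P1 (P0 (P1 (P0 (P1 (P0 (P1 (P0 p)))))))))))))))))))))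
noncomputable def R4 (p : Nat) : Nat := Q4 (Q4 p)
noncomputable def U5 (p : Nat) : Nat := P2 (P0 (P1 (P0 (P2 (P0 (P2 (P0 (P1 (P0 (P2 (P0 (P1 (P0 (P1 (P0 (P2 (P0 (P1 (P0 (P1 (P0 p)))))))))))))))))))))
noncomputable def R5 (p : Nat) : Nat := Q5 (Q5 p)
noncomputable def R6 (p : Nat) : Nat := P2 (P0 (P1 (P0 (P2 (P0 (P1 (P0 (P2 (P0 (P1 (P0 (P2 (P0 (P2 (P0 (P1 (P0 (P2 (P0 (P1 (P0 (P2 (P0 (P1 (P0 (P2 (P0 (P1 (P0 (P1 (P0 (P1 (P0 (P2 (P0 (P1 (P0 (P2 (P0 (P1 (P0 (P2 (P0 (P1 (P0 (P1 (P0 (P1 (P0 p)))))))))))))))))))))))))))))))))))))))))))))))))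
noncomputable def U7 (p : Nat) : Nat := P2 (P0 (P1 (P0 (P2 (P0 (P1 (P0 (P1 (P0 (P1 (P0 (P1 (P0 p)))))))))))))
noncomputable def R7 (p : Nat) : Nat := Q7 (Q7 (Q7 (Q7 p)))
noncomputable def R8 (p : Nat) : Nat := P2 (P0 (P2 (P0 (P1 (P0 (P2 (P0 (P2 (P0 (P2 (P0 (P2 (P0 (P2 (P4 p)))))))))))))))
noncomputable def R9 (p : Nat) : Nat := P4 (P4 (P4 (P4 p)))
noncomputable def U10 (p : Nat) : Nat := P0 (P4 p)
noncomputable def R10 (p : Nat) : Nat := Q10 (Q10 (Q10 (Q10 (Q10 (Q10 p)))))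
noncomputable def R11 (p : Nat) : Nat := P0 (P3 (P0 (P3 (P0 (P4 (P0 (P4 (P0 (P3 (P3 (P0 (P4 (P4 (P0 (P3 (P0 (P4 (P4 (P0 (P3 (P0 (P3 (P0 (P4 (P0 (P4 (P4 p)))))))))))))))))))))))))))
noncomputable def R12 (p : Nat) : Nat := P0 (P4 (P0 (P4 (P0 (P3 (P0 (P3 (P0 (P4 (P0 (P4 (P0 (P3 (P0 (P4 (P0 (P3 (P0 (P3 (P0 (P4 (P0 (P4 (P0 (P3 (P0 (P3 (P0 (P4 (P4 p))))))))))))))))))))))))))))))
noncomputable def R13 (p : Nat) : Nat := P3 (P2 (P4 (P2 (P0 (P3 (P2 (P4 (P2 (P0 p)))))))))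
noncomputable def R14 (p : Nat) : Nat := P3 (P2 (P4 (P2 (P0 (P3 (P2 (P4 (P1 (P1 (P0 p))))))))))
noncomputable def R15 (p : Nat) : Nat := P3 (P2 (P4 (P2 (P0 (P3 (P1 (P1 (P4 (P2 (P0 p))))))))))
noncomputable def U16 (p : Nat) : Nat := P3 (P2 (P4 (P1 (P1 (P0 p)))))
noncomputable def R16 (p : Nat) : Nat := Q16 (Q16 p)
noncomputable def U17 (p : Nat) : Nat := P3 (P1 (P1 (P4 (P2 (P0 p)))))
noncomputable def R17 (p : Nat) : Nat := Q17 (Q17 p)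
noncomputable def U18 (p : Nat) : Nat := P3 (P0 p)
noncomputable def R18 (p : Nat) : Nat := Q18 (Q18 (Q18 (Q18 (Q18 (Q18 p)))))
noncomputable def R19 (p : Nat) : Nat := P4 (P4 (P4 (P2 (P4 (P2 (P0 (P3 (P2 (P4 (P2 (P0 p)))))))))))
noncomputable def R20 (p : Nat) : Nat := P3 (P2 (P4 (P2 (P0 (P3 (P2 (P3 (P3 (P3 (P2 (P0 p)))))))))))
noncomputable def R21 (p : Nat) : Nat := P3 (P1 (P0 (P4 (P2 (P0 (P1 (P4 (P2 (P0 (P2 (P0 (P1 (P0 p)))))))))))))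
noncomputable def U22 (p : Nat) : Nat := P4 (P4 (P4 (P2 (P4 (P2 (P0 p))))))
noncomputable def R22 (p : Nat) : Nat := Q22 (Q22 p)
noncomputable def R23 (p : Nat) : Nat := P4 (P4 (P4 (P0 (P3 (P0 (P3 (P0 (P3 (P0 (P3 (P0 (P3 (P0 p)))))))))))))
noncomputable def U24 (p : Nat) : Nat := P3 (P2 (P3 (P3 (P3 (P2 (P0 p))))))
noncomputable def R24 (p : Nat) : Nat := Q24 (Q24 p)
noncomputable def R25 (p : Nat) : Nat := P1 (P3 (P1 (P0 (P4 (P2 (P0 (P2 (P0 (P1 (P0 (P1 (P0 (P1 (P0 p))))))))))))))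
noncomputable def R26 (p : Nat) : Nat := P1 (P3 (P1 (P0 (P2 (P0 (P1 (P3 (P0 (P2 (P4 (P1 (P0 (P1 (P0 p))))))))))))))
noncomputable def R27 (p : Nat) : Nat := P3 (P1 (P0 (P4 (P2 (P0 (P2 (P2 (P4 (P2 (P0 (P2 (P0 (P1 (P0 p))))))))))))))
noncomputable def R28 (p : Nat) : Nat := P3 (P1 (P3 (P2 (P4 (P2 (P4 (P2 (P0 (P2 (P4 (P2 (P0 (P1 (P0 p))))))))))))))
noncomputable def R29 (p : Nat) : Nat := P3 (P1 (P0 (P4 (P1 (P1 (P0 (P1 (P4 (P2 (P0 (P2 (P0 (P1 (P0 p))))))))))))))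
noncomputable def R30 (p : Nat) : Nat := P1 (P3 (P2 (P0 (P1 (P3 (P0 (P2 (P4 (P0 (P1 (P1 (P0 (P1 (P0 p))))))))))))))
noncomputable def R31 (p : Nat) : Nat := P3 (P2 (P2 (P0 (P4 (P2 (P0 (P1 (P4 (P2 (P0 (P2 (P0 (P1 (P0 p))))))))))))))
noncomputable def R32 (p : Nat) : Nat := P3 (P1 (P0 (P4 (P2 (P0 (P1 (P4 (P2 (P0 (P1 (P1 (P0 (P1 (P0 p))))))))))))))
noncomputable def R33 (p : Nat) : Nat := P3 (P1 (P0 (P4 (P2 (P0 (P1 (P4 (P1 (P1 (P0 (P2 (P0 (P1 (P0 p))))))))))))))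
noncomputable def R34 (p : Nat) : Nat := P2 (P0 (P1 (P0 (P1 (P3 (P1 (P0 (P1 (P0 (P1 (P0 (P1 (P0 (P1 (P0 p)))))))))))))))
noncomputable def R35 (p : Nat) : Nat := P1 (P3 (P0 (P1 (P4 (P2 (P0 (P3 (P0 (P4 (P2 (P0 (P1 (P0 (P1 (P0 p)))))))))))))))
noncomputable def R36 (p : Nat) : Nat := P2 (P4 (P2 (P0 (P3 (P0 (P1 (P0 (P4 (P0 (P1 (P3 (P1 (P0 (P1 (P0 p)))))))))))))))
noncomputable def U37 (p : Nat) : Nat := P4 (P1 (P0 (P4 (P1 (P0 (P1 (P0 p)))))))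
noncomputable def R37 (p : Nat) : Nat := Q37 (Q37 p)
noncomputable def R38 (p : Nat) : Nat := P1 (P3 (P0 (P2 (P0 (P1 (P4 (P2 (P0 (P3 (P0 (P4 (P1 (P0 (P1 (P0 p)))))))))))))))
noncomputable def R39 (p : Nat) : Nat := P2 (P1 p)
noncomputable def R40 (p : Nat) : Nat := P4 (P3 p)
end Cfsg.Agent.Lib.Helper6.TCD.J3a
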