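import Cfsg.Agent.Lib.Helper6.TC11
import Cfsg.Agent.Lib.Helper6.TCD.J3a.Par
set_option autoImplicit false
set_option maxRecDepth 1000000
set_option Elab.async false
open Cfsg.Agent.Lib.Helper6.TC
namespace Cfsg.Agent.Lib.Helper6.TCD.J3a
theorem chkT : chkTree px GT 5 6156 = true := by decide +kernel
theorem chkH0 : Nat.beq (H0 0) 0 = true := by decide +kernel
theorem chkH1 : Nat.beq (H1 0) 0 = true := by decide +kernel
theorem chkRk : chkRank isRoot rnk mv 6156 = true := by decide +kernel
theorem chkCnt0 : cntLab lab 0 6156 = 1 := by decide +kernel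
theorem chkCnt1 : cntLab lab 1 6156 = 1360 := by decide +kernel
theorem chkCnt2 : cntLab lab 2 6156 = 2040 := by decide +kernel
theorem chkCnt3 : cntLab lab 3 6156 = 680 := by decide +kernel
theorem chkCnt4 : cntLab lab 4 6156 = 1360 := by decide +kernel
theorem chkCnt5 : cntLab lab 5 6156 = 510 := by decide +kernel
theorem chkCnt6 : cntLab lab 6 6156 = 120 := by decide +kernel
theorem chkCnt7 : cntLab lab 7 6156 = 85 := by decide +kernel
end Cfsg.Agent.Lib.Helper6.TCD.J3a
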