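import Cfsg.Agent.Lib.Helper6.TC13
import Cfsg.Agent.Lib.Helper6.TCD.J3a.Par
set_option autoImplicit false
set_option maxRecDepth 1000000
set_option Elab.async false
open Cfsg.Agent.Lib.Helper6.TC
namespace Cfsg.Agent.Lib.Helper6.TCD.J3a
theorem chkR6_1 : chkFix R6 3843 2313 = true := by decide +kernel
theorem chkQ7_0 : chkEqF Q7 U7 0 6156 = true := by decide +kernel
theorem chkR7_0 : chkFix R7 0 6156 = true := by decide +kernel
theorem chkR8_0 : chkFix R8 0 1086 = true := by decide +kernel
end Cfsg.Agent.Lib.Helper6.TCD.J3a
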