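import Cfsg.Agent.Lib.Helper6.TC13
import Cfsg.Agent.Lib.Helper6.TCD.J3a.Par
set_option autoImplicit false
set_option maxRecDepth 1000000
set_option Elab.async false
open Cfsg.Agent.Lib.Helper6.TC
namespace Cfsg.Agent.Lib.Helper6.TCD.J3a
theorem chkR8_1 : chkFix R8 1086 5070 = true := by decide +kernel
theorem chkR9_0 : chkFix R9 0 6156 = true := by decide +kernel
theorem chkQ10_0 : chkEqF Q10 U10 0 6156 = true := by decide +kernel
theorem chkR10_0 : chkFix R10 0 6156 = true := by decide +kernel
theorem chkR11_0 : chkFix R11 0 3173 = true := by decide +kernel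
end Cfsg.Agent.Lib.Helper6.TCD.J3a
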