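import Cfsg.Agent.Lib.Helper6.TC13
import Cfsg.Agent.Lib.Helper6.TCD.J3a.Par
set_option autoImplicit false
set_option maxRecDepth 1000000
set_option Elab.async false
open Cfsg.Agent.Lib.Helper6.TC
namespace Cfsg.Agent.Lib.Helper6.TCD.J3a
theorem chkQ16_1 : chkEqF Q16 U16 4091 2065 = true := by decide +kernel
theorem chkR16_0 : chkFix R16 0 6156 = true := by decide +kernel
theorem chkQ17_0 : chkEqF Q17 U17 0 6156 = true := by decide +kernel
theorem chkR17_0 : chkFix R17 0 6156 = true := by decide +kernel
theorem chkQ18_0 : chkEqF Q18 U18 0 6156 = true := by decide +kernel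
theorem chkR18_0 : chkFix R18 0 6156 = true := by decide +kernel
theorem chkR19_0 : chkFix R19 0 6156 = true := by decide +kernel
theorem chkR20_0 : chkFix R20 0 3212 = true := by decide +kernel
end Cfsg.Agent.Lib.Helper6.TCD.J3a
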