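import Cfsg.Agent.Lib.Helper6.TCD.J3a.CS0
import Cfsg.Agent.Lib.Helper6.TCD.J3a.CS1
import Cfsg.Agent.Lib.Helper6.TCD.J3a.CS2
import Cfsg.Agent.Lib.Helper6.TCD.J3a.CS3
import Cfsg.Agent.Lib.Helper6.TCD.J3a.CS4
import Cfsg.Agent.Lib.Helper6.TCD.J3a.CS5
import Cfsg.Agent.Lib.Helper6.TCD.J3a.CS6
import Cfsg.Agent.Lib.Helper6.TCD.J3a.CS7
import Cfsg.Agent.Lib.Helper6.TCD.J3a.CS8
import Cfsg.Agent.Lib.Helper6.TCD.J3a.CS9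
import Cfsg.Agent.Lib.Helper6.TCD.J3a.CS10
import Cfsg.Agent.Lib.Helper6.TCD.J3a.CS11
import Cfsg.Agent.Lib.Helper6.TCD.J3a.CS12
import Cfsg.Agent.Lib.Helper6.TCD.J3a.CS13
import Cfsg.Agent.Lib.Helper6.TCD.J3a.CS14
import Cfsg.Agent.Lib.Helper6.TCD.J3a.CS15
import Cfsg.Agent.Lib.Helper6.TCD.J3a.CS16
import Cfsg.Agent.Lib.Helper6.TCD.J3a.CS17
import Cfsg.Agent.Lib.Helper6.TCD.J3a.CS18
import Cfsg.Agent.Lib.Helper6.TCD.J3a.CS19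
import Cfsg.Agent.Lib.Helper6.TCD.J3a.CS20
import Cfsg.Agent.Lib.Helper6.TCD.J3a.CS21
import Cfsg.Agent.Lib.Helper6.TCD.J3a.CS22
import Cfsg.Agent.Lib.Helper6.TCD.J3a.CS23
import Cfsg.Agent.Lib.Helper6.TCD.J3a.CS24
import Cfsg.Agent.Lib.Helper6.TCD.J3a.CS25
import Cfsg.Agent.Lib.Helper6.TCD.J3a.CS26
import Cfsg.Agent.Lib.Helper6.TCD.J3a.CS27
import Cfsg.Agent.Lib.Helper6.TCD.J3a.CS28
import Cfsg.Agent.Lib.Helper6.TCD.J3a.CS29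
import Cfsg.Agent.Lib.Helper6.TCD.J3a.CS30
import Cfsg.Agent.Lib.Helper6.TCD.J3a.CS31
import Cfsg.Agent.Lib.Helper6.TCD.J3a.CS32
import Cfsg.Agent.Lib.Helper6.TCD.J3a.CS33
import Cfsg.Agent.Lib.Helper6.TCD.J3a.CS34
import Cfsg.Agent.Lib.Helper6.TCD.J3a.CS35
import Cfsg.Agent.Lib.Helper6.TCD.J3a.CS36
import Cfsg.Agent.Lib.Helper6.TCD.J3a.CS37
import Cfsg.Agent.Lib.Helper6.TCD.J3a.CS38
import Cfsg.Agent.Lib.Helper6.TCD.J3a.CS39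
import Cfsg.Agent.Lib.Helper6.TCD.J3a.CS40
import Cfsg.Agent.Lib.Helper6.TCD.J3a.CS41
import Cfsg.Agent.Lib.Helper6.TCD.J3a.CS42
import Cfsg.Agent.Lib.Helper6.TCD.J3a.CS43
import Cfsg.Agent.Lib.Helper6.TCD.J3a.CS44
import Cfsg.Agent.Lib.Helper6.TCD.J3a.CS45
import Cfsg.Agent.Lib.Helper6.TCD.J3a.CN0
import Cfsg.Agent.Lib.Helper6.TCD.J3a.CN1
import Cfsg.Agent.Lib.Helper6.TCD.J3a.CN2
import Cfsg.Agent.Lib.Helper6.TCD.J3a.CN3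
import Cfsg.Agent.Lib.Helper6.TCD.J3a.CN4
import Cfsg.Agent.Lib.Helper6.TCD.J3a.CN5
import Cfsg.Agent.Lib.Helper6.TCD.J3a.CN6
import Cfsg.Agent.Lib.Helper6.TCD.J3a.CN7
import Cfsg.Agent.Lib.Helper6.TCD.J3a.CN8
import Cfsg.Agent.Lib.Helper6.TCD.J3a.CN9
import Cfsg.Agent.Lib.Helper6.TCD.J3a.CN10
import Cfsg.Agent.Lib.Helper6.TCD.J3a.CN11
import Cfsg.Agent.Lib.Helper6.TCD.J3a.CN12
import Cfsg.Agent.Lib.Helper6.TCD.J3a.CC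
import Cfsg.Agent.Lib.Helper6.TCD.J3a.CPa0
import Cfsg.Agent.Lib.Helper6.TCD.J3a.CPb
import Cfsg.Agent.Lib.Helper6.TCD.J3a.CPc0
import Cfsg.Agent.Lib.Helper6.TCD.J3a.CR0
import Cfsg.Agent.Lib.Helper6.TCD.J3a.CR1
import Cfsg.Agent.Lib.Helper6.TCD.J3a.CR2
import Cfsg.Agent.Lib.Helper6.TCD.J3a.CR3
import Cfsg.Agent.Lib.Helper6.TCD.J3a.CR4
import Cfsg.Agent.Lib.Helper6.TCD.J3a.CR5
import Cfsg.Agent.Lib.Helper6.TCD.J3a.CR6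
import Cfsg.Agent.Lib.Helper6.TCD.J3a.CR7
import Cfsg.Agent.Lib.Helper6.TCD.J3a.CR8
import Cfsg.Agent.Lib.Helper6.TCD.J3a.CR9
import Cfsg.Agent.Lib.Helper6.TCD.J3a.CR10
import Cfsg.Agent.Lib.Helper6.TCD.J3a.CR11
import Cfsg.Agent.Lib.Helper6.TCD.J3a.CR12
import Cfsg.Agent.Lib.Helper6.TCD.J3a.CR13
import Cfsg.Agent.Lib.Helper6.TCD.J3a.CR14
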