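import Cfsg.Agent.Lib.Helper6.TCD.J3a.SHP0
import Cfsg.Agent.Lib.Helper6.TCD.J3a.SHP1
import Cfsg.Agent.Lib.Helper6.TCD.J3a.SHP2
import Cfsg.Agent.Lib.Helper6.TCD.J3a.SHP3
import Cfsg.Agent.Lib.Helper6.TCD.J3a.SHP4
import Cfsg.Agent.Lib.Helper6.TCD.J3a.SHP5
set_option autoImplicit false
namespace Cfsg.Agent.Lib.Helper6.TCD.J3a
noncomputable def SHT0 (i : Nat) : Nat := Bool.rec (SHP0N62 i) (SHP1N62 i) (Nat.ble 65536 i)
noncomputable def SHT1 (i : Nat) : Nat := Bool.rec (SHT0 i) (SHP2N62 i) (Nat.ble 131072 i)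
noncomputable def SHT2 (i : Nat) : Nat := Bool.rec (SHP3N62 i) (SHP4N62 i) (Nat.ble 262144 i)
noncomputable def SHT3 (i : Nat) : Nat := Bool.rec (SHT2 i) (SHP5N37 i) (Nat.ble 327680 i)
noncomputable def SH (i : Nat) : Nat := Bool.rec (SHT1 i) (SHT3 i) (Nat.ble 196608 i)
end Cfsg.Agent.Lib.Helper6.TCD.J3a
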